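import Mathlib

/-!
# Number theory for `PSU_4(q)`, `q = 4 k + 3` (helper421)
-/

set_option autoImplicit false

namespace Cfsg.Agent.H421.U4

/-- `(q ^ 2 + 1) / 2` -/
def A (k : ℕ) : ℕ := 8 * k ^ 2 + 12 * k + 5
/-- `q ^ 2 - q + 1` -/
def B (k : ℕ) : ℕ := 16 * k ^ 2 + 20 * k + 7
/-- `(q ^ 2 - q + 1) / (3, q + 1)` -/
def R6 (k : ℕ) : ℕ := B k / Nat.gcd 3 (k + 1)

section

variable {k p t : ℕ}

/-- the primitive prime divisors of `q ^ 2 + 1` -/
theorem of_dvd_A (ht : t.Prime) (ht2 : t ≠ 2) (h : t ∣ A k) : ¬ t ∣ k + 1 ∧ ¬ t ∣ 2 * k + 1 ∧ ¬ t ∣ B k ∧ ¬ t ∣ 4 * k + 3 := by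
  have hf : Fact t.Prime := ⟨ht⟩
  have h2 : (2 : ZMod t) ≠ 0 := by
    intro h0
    have h1 : ((2 : ℕ) : ZMod t) = 0 := by exact_mod_cast h0
    rw [ZMod.natCast_eq_zero_iff] at h1
    exact ht2 ((Nat.prime_dvd_prime_iff_eq ht Nat.prime_two).1 h1)
  have hA : (8 : ZMod t) * (k : ZMod t) ^ 2 + 12 * k + 5 = 0 := by
    have := (ZMod.natCast_eq_zero_iff (A k) t).2 h
    unfold A at this
    push_cast at this
    exact this
  refine ⟨fun h1 => ?_, fun h1 => ?_, fun h1 => ?_, fun h1 => ?_⟩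
  · have h3 := (ZMod.natCast_eq_zero_iff (k + 1) t).2 h1
    push_cast at h3
    have h4 : (1 : ZMod t) = 0 := by linear_combination hA - (8 * (k : ZMod t) + 4) * h3
    exact one_ne_zero h4
  · have h3 := (ZMod.natCast_eq_zero_iff (2 * k + 1) t).2 h1
    push_cast at h3
    exact h2 (by linear_combination 2 * hA - (8 * (k : ZMod t) + 8) * h3)
  · have h3 := (ZMod.natCast_eq_zero_iff (B k) t).2 h1
    unfold B at h3
    push_cast at h3
    have h4 : (4 : ZMod t) * k + 3 = 0 := by linear_combination 2 * hA - h3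
    have h5 : (1 : ZMod t) = 0 := by linear_combination 2 * hA - (4 * (k : ZMod t) + 3) * h4
    exact one_ne_zero h5
  · have h3 := (ZMod.natCast_eq_zero_iff (4 * k + 3) t).2 h1
    push_cast at h3
    have h5 : (1 : ZMod t) = 0 := by linear_combination 2 * hA - (4 * (k : ZMod t) + 3) * h3
    exact one_ne_zero h5

/-- the primitive prime divisors of `q ^ 2 - q + 1` -/
theorem of_dvd_B (ht : t.Prime) (ht3 : t ≠ 3) (h : t ∣ B k) : t ≠ 2 ∧ ¬ t ∣ k + 1 ∧ ¬ t ∣ 2 * k + 1 ∧ ¬ t ∣ A k ∧ ¬ t ∣ 4 * k + 3 := by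
  have hf : Fact t.Prime := ⟨ht⟩
  have h2 : t ≠ 2 := by
    rintro rfl
    unfold B at h
    omega
  have h3' : (3 : ZMod t) ≠ 0 := by
    intro h0
    have h1 : ((3 : ℕ) : ZMod t) = 0 := by exact_mod_cast h0
    rw [ZMod.natCast_eq_zero_iff] at h1
    exact ht3 ((Nat.prime_dvd_prime_iff_eq ht Nat.prime_three).1 h1)
  have hB : (16 : ZMod t) * (k : ZMod t) ^ 2 + 20 * k + 7 = 0 := by
    have := (ZMod.natCast_eq_zero_iff (B k) t).2 h
    unfold B at this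
    push_cast at this
    exact this
  refine ⟨h2, fun h1 => ?_, fun h1 => ?_, fun h1 => ?_, fun h1 => ?_⟩
  · have h3 := (ZMod.natCast_eq_zero_iff (k + 1) t).2 h1
    push_cast at h3
    exact h3' (by linear_combination hB - (16 * (k : ZMod t) + 4) * h3)
  · have h3 := (ZMod.natCast_eq_zero_iff (2 * k + 1) t).2 h1
    push_cast at h3
    have h4 : (1 : ZMod t) = 0 := by linear_combination hB - (8 * (k : ZMod t) + 6) * h3
    exact one_ne_zero h4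
  · exact (of_dvd_A ht h2 h1).2.2.1 h
  · have h3 := (ZMod.natCast_eq_zero_iff (4 * k + 3) t).2 h1
    push_cast at h3
    have h5 : (1 : ZMod t) = 0 := by linear_combination hB - (4 * (k : ZMod t) + 2) * h3
    exact one_ne_zero h5

/-- the characteristic -/
theorem of_dvd_q (hp : t.Prime) (hp2 : t ≠ 2) (h : t ∣ 4 * k + 3) : ¬ t ∣ k + 1 ∧ ¬ t ∣ 2 * k + 1 ∧ ¬ t ∣ A k ∧ ¬ t ∣ B k := by
  have hf : Fact t.Prime := ⟨hp⟩
  have h3 := (ZMod.natCast_eq_zero_iff (4 * k + 3) t).2 h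
  push_cast at h3
  refine ⟨fun h1 => ?_, fun h1 => ?_, fun h1 => (of_dvd_A hp hp2 h1).2.2.2 h, fun h1 => ?_⟩
  · have h4 := (ZMod.natCast_eq_zero_iff (k + 1) t).2 h1
    push_cast at h4
    have h5 : (1 : ZMod t) = 0 := by linear_combination 4 * h4 - h3
    exact one_ne_zero h5
  · have h4 := (ZMod.natCast_eq_zero_iff (2 * k + 1) t).2 h1
    push_cast at h4
    have h5 : (1 : ZMod t) = 0 := by linear_combination h3 - 2 * h4
    exact one_ne_zero h5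
  · have h4 := (ZMod.natCast_eq_zero_iff (B k) t).2 h1
    unfold B at h4
    push_cast at h4
    have h5 : (1 : ZMod t) = 0 := by linear_combination h4 - (4 * (k : ZMod t) + 2) * h3
    exact one_ne_zero h5

theorem R6_mul (k : ℕ) : R6 k * Nat.gcd 3 (k + 1) = B k := by
  unfold R6
  apply Nat.div_mul_cancel
  rcases (Nat.dvd_prime Nat.prime_three).1 (Nat.gcd_dvd_left 3 (k + 1)) with h | h
  · rw [h]; exact one_dvd _
  · rw [h]
    have h1 : 3 ∣ k + 1 := by rw [← h]; exact Nat.gcd_dvd_right 3 (k + 1)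
    obtain ⟨j, hj⟩ := h1
    unfold B
    have : k = 3 * j - 1 := by omega
    have hj1 : 1 ≤ j := by omega
    obtain ⟨i, rfl⟩ : ∃ i, j = i + 1 := ⟨j - 1, by omega⟩
    have hk : k = 3 * i + 2 := by omega
    subst hk
    exact ⟨48 * i ^ 2 + 84 * i + 37, by ring⟩

theorem not_three_dvd_R6 (k : ℕ) : ¬ 3 ∣ R6 k := by
  intro h
  have hm := R6_mul k
  rcases (Nat.dvd_prime Nat.prime_three).1 (Nat.gcd_dvd_left 3 (k + 1)) with h1 | h1
  · rw [h1, mul_one] at hm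
    rw [hm] at h
    unfold B at h
    have h2 : ¬ 3 ∣ k + 1 := by
      intro h3
      have := Nat.gcd_eq_left h3
      omega
    have hk : k % 3 = 0 ∨ k % 3 = 1 := by omega
    obtain ⟨j, hj⟩ : ∃ j, k = 3 * j ∨ k = 3 * j + 1 := ⟨k / 3, by omega⟩
    rcases hj with rfl | rfl
    · have : 16 * (3 * j) ^ 2 + 20 * (3 * j) + 7 = 3 * (48 * j ^ 2 + 20 * j + 2) + 1 := by ring
      omega
    · have : 16 * (3 * j + 1) ^ 2 + 20 * (3 * j + 1) + 7 = 3 * (48 * j ^ 2 + 52 * j + 14) + 1 := by ring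
      omega
  · have h2 : 3 ∣ k + 1 := by rw [← h1]; exact Nat.gcd_dvd_right 3 (k + 1)
    obtain ⟨i, rfl⟩ : ∃ i, k = 3 * i + 2 := ⟨(k + 1) / 3 - 1, by omega⟩
    rw [h1] at hm
    have : B (3 * i + 2) = 3 * (3 * (16 * i ^ 2 + 28 * i + 12) + 1) := by unfold B; ring
    rw [this] at hm
    omega

theorem R6_dvd (k : ℕ) : R6 k ∣ B k := ⟨_, (R6_mul k).symm⟩

theorem gcd_cases (k : ℕ) : Nat.gcd 3 (k + 1) = 1 ∨ Nat.gcd 3 (k + 1) = 3 :=
  (Nat.dvd_prime Nat.prime_three).1 (Nat.gcd_dvd_left 3 (k + 1))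

theorem R6_ne_one (k : ℕ) : R6 k ≠ 1 := by
  intro h
  have hm := R6_mul k
  rw [h, one_mul] at hm
  unfold B at hm
  rcases gcd_cases k with h1 | h1 <;> rw [h1] at hm <;> omega

/-- a prime divisor of `R6 k` -/
theorem of_dvd_R6 (ht : t.Prime) (h : t ∣ R6 k) : t ≠ 2 ∧ t ≠ 3 ∧ t ∣ B k ∧ ¬ t ∣ k + 1 ∧ ¬ t ∣ 2 * k + 1 ∧ ¬ t ∣ A k ∧
    ¬ t ∣ 4 * k + 3 := by
  have h3 : t ≠ 3 := by
    rintro rfl
    exact not_three_dvd_R6 k h
  have hB := h.trans (R6_dvd k)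
  obtain ⟨h1, h2, h4, h5, h6⟩ := of_dvd_B ht h3 hB
  exact ⟨h1, h3, hB, h2, h4, h5, h6⟩

/-- `5` does not divide `R6 k` -/
theorem not_five_dvd_B (k : ℕ) : ¬ 5 ∣ B k := by
  intro h
  unfold B at h
  have : k % 5 = 0 ∨ k % 5 = 1 ∨ k % 5 = 2 ∨ k % 5 = 3 ∨ k % 5 = 4 := by omega
  have h1 := Nat.mod_eq_zero_of_dvd h
  rw [Nat.add_mod, Nat.add_mod (16 * k ^ 2), Nat.mul_mod, Nat.pow_mod, Nat.mul_mod 20] at h1
  rcases this with h2 | h2 | h2 | h2 | h2 <;> rw [h2] at h1 <;> norm_num at h1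

/-- the last case: `u = R6 ^ f` -/
theorem size {f w : ℕ} (hk : 1 ≤ k) (hpq : p ≤ 4 * k + 3) (hf : 2 ≤ f) (hu : R6 k ^ f = 2 * w + 1)
    (hw : w + 1 ≤ 2 * p * (2 * k + 1) * (k + 1)) : False := by
  have h1 : R6 k ^ 2 ≤ 2 * w + 1 := by
    rw [← hu]
    exact Nat.pow_le_pow_right (Nat.pos_of_ne_zero fun h => by
      have := R6_mul k
      rw [h, zero_mul] at this
      unfold B at this
      omega) hf
  have h2 : B k ≤ 3 * R6 k := by
    rw [← R6_mul k]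
    rcases gcd_cases k with h | h <;> rw [h] <;> omega
  have h3 : B k ^ 2 ≤ 9 * R6 k ^ 2 := by nlinarith
  have h4 : 2 * p * (2 * k + 1) * (k + 1) ≤ 2 * (4 * k + 3) * (2 * k + 1) * (k + 1) := by
    apply Nat.mul_le_mul_right
    apply Nat.mul_le_mul_right
    omega
  have h5 : B k ^ 2 ≤ 36 * ((4 * k + 3) * (2 * k + 1) * (k + 1)) := by
    have : 2 * (4 * k + 3) * (2 * k + 1) * (k + 1) = 2 * ((4 * k + 3) * (2 * k + 1) * (k + 1)) := by ring
    omega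
  unfold B at h5
  obtain ⟨j, rfl⟩ : ∃ j, k = j + 1 := ⟨k - 1, by omega⟩
  ring_nf at h5
  nlinarith [h5, Nat.zero_le (j ^ 4), Nat.zero_le (j ^ 3), Nat.zero_le (j ^ 2), Nat.zero_le j]

/-- the last case: `u = R6` -/
theorem last (h5 : 5 ≤ p) (hpq : p ∣ 4 * k + 3) {w : ℕ} (hu : R6 k = 2 * w + 1) (hw : p ∣ w + 1) : False := by
  have h1 : p ∣ R6 k + 1 := by
    rw [hu]
    have : 2 * w + 1 + 1 = 2 * (w + 1) := by ring
    rw [this]
    exact hw.mul_left 2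
  have h2 : p ∣ B k + Nat.gcd 3 (k + 1) := by
    rw [← R6_mul k]
    have : R6 k * Nat.gcd 3 (k + 1) + Nat.gcd 3 (k + 1) = (R6 k + 1) * Nat.gcd 3 (k + 1) := by ring
    rw [this]
    exact h1.mul_right _
  have h3 : B k = (4 * k + 3) * (4 * k + 2) + 1 := by unfold B; ring
  rw [h3, add_assoc, Nat.dvd_add_right (hpq.mul_right _)] at h2
  have h4 := Nat.le_of_dvd (by omega) h2
  rcases gcd_cases k with h | h <;> rw [h] at h4 <;> omega

end

end Cfsg.Agent.H421.U4
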