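import Cfsg.Agent.H421.Rec.FpfTwo
import Cfsg.Agent.H421.Rec.PslFrob
import Cfsg.Agent.H421.Rec.U4Num
import Cfsg.Agent.H402.Rec.Fact

/-!
# `PSU_4(q)`, `q = 4 k + 3`: sections `PSL_2(u)`, `u` odd, and `A_7` (helper421, for S3461)

`Dat4 p k G`: `G` is a finite group whose element orders are as in `PSU_4(q)`, `q = 4 k + 3` a power of the prime
`p ≥ 5`. If `K` is normal in `G`, `S` is normal in `G / K` with trivial centralizer, the coclique clause holds, and an odd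
prime `r` dividing `q ^ 2 + 1` divides `|K| |G / K : S|`, then

* `S ≅ PSL_2(u)`, `u` odd, implies that `u` is a power of `p` (`Dat4.char_eq`),
* `S ≅ A_7` is impossible (`Dat4.not_alt`).
-/

set_option autoImplicit false
set_option linter.unusedSectionVars false

namespace Cfsg.Agent.H421.U4

open Subgroup Cfsg.Agent.H421.FpfTwo Cfsg.Agent.H402.Rec

/-- the facts on the element orders, `q = 4 k + 3` -/
structure Dat4 (p k : ℕ) (G : Type*) [Group G] : Prop where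
  pp : p.Prime
  h5 : 5 ≤ p
  hq : ∃ a, 4 * k + 3 = p ^ a
  spec : ∀ g : G, orderOf g ∣ (k + 1) * B k ∨ orderOf g ∣ A k * (2 * k + 1) ∨ orderOf g ∣ 8 * ((2 * k + 1) * (k + 1)) ∨
    orderOf g ∣ p * (2 * ((2 * k + 1) * (k + 1))) ∨ orderOf g ∣ p * (4 * (k + 1))
  ex6 : ∃ g : G, orderOf g = R6 k
  exp : ∃ g : G, orderOf g = p

/-- conversion -/
theorem dat4_of {p q a : ℕ} {G : Type*} [Group G] (hp : p.Prime) (h5 : 5 ≤ p) (hq : q = p ^ a) (h3 : q % 4 = 3)
    (hs : ∀ g : G, orderOf g ∣ (q ^ 3 + 1) / 4 ∨ orderOf g ∣ (q ^ 2 + 1) * (q - 1) / 4 ∨ orderOf g ∣ q ^ 2 - 1 ∨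
      orderOf g ∣ p * (q ^ 2 - 1) / 4 ∨ orderOf g ∣ p * (q + 1))
    (h6 : ∃ g : G, orderOf g = (q ^ 2 - q + 1) / Nat.gcd 3 (q + 1)) (he : ∃ g : G, orderOf g = p) :
    ∃ k, q = 4 * k + 3 ∧ Dat4 p k G := by
  obtain ⟨k, rfl⟩ : ∃ k, q = 4 * k + 3 := ⟨q / 4, by omega⟩
  refine ⟨k, rfl, hp, h5, ⟨a, hq⟩, ?_, ?_, he⟩
  · have e1 : ((4 * k + 3) ^ 3 + 1) / 4 = (k + 1) * B k := by
      have : (4 * k + 3) ^ 3 + 1 = 4 * ((k + 1) * B k) := by unfold B; ring
      rw [this, Nat.mul_div_cancel_left _ (by norm_num)]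
    have e2 : ((4 * k + 3) ^ 2 + 1) * (4 * k + 3 - 1) / 4 = A k * (2 * k + 1) := by
      have h1 : 4 * k + 3 - 1 = 4 * k + 2 := by omega
      rw [h1]
      have : ((4 * k + 3) ^ 2 + 1) * (4 * k + 2) = 4 * (A k * (2 * k + 1)) := by unfold A; ring
      rw [this, Nat.mul_div_cancel_left _ (by norm_num)]
    have e3 : (4 * k + 3) ^ 2 - 1 = 8 * ((2 * k + 1) * (k + 1)) := by
      have : (4 * k + 3) ^ 2 = 8 * ((2 * k + 1) * (k + 1)) + 1 := by ring
      omega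
    have e4 : p * ((4 * k + 3) ^ 2 - 1) / 4 = p * (2 * ((2 * k + 1) * (k + 1))) := by
      rw [e3]
      have : p * (8 * ((2 * k + 1) * (k + 1))) = 4 * (p * (2 * ((2 * k + 1) * (k + 1)))) := by ring
      rw [this, Nat.mul_div_cancel_left _ (by norm_num)]
    have e5 : p * (4 * k + 3 + 1) = p * (4 * (k + 1)) := by ring
    rw [e1, e2, e3, e5] at hs
    rw [e3] at e4
    rw [e4] at hs
    exact hs
  · have e1 : (4 * k + 3) ^ 2 - (4 * k + 3) + 1 = B k := by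
      have : (4 * k + 3) ^ 2 = (4 * k + 3) * (4 * k + 2) + (4 * k + 3) := by ring
      have h2 : B k = (4 * k + 3) * (4 * k + 2) + 1 := by unfold B; ring
      omega
    have e2 : Nat.gcd 3 (4 * k + 3 + 1) = Nat.gcd 3 (k + 1) := by
      have : 4 * k + 3 + 1 = k + 1 + 3 * (k + 1) := by ring
      rw [this, Nat.gcd_add_mul_left_right]
    rw [e1, e2] at h6
    exact h6

section

variable {p k : ℕ} {G : Type*} [Group G]

theorem Dat4.odd_p (D : Dat4 p k G) : p ≠ 2 := by have := D.h5; omega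

theorem Dat4.p_dvd (D : Dat4 p k G) : p ∣ 4 * k + 3 := by
  obtain ⟨a, ha⟩ := D.hq
  have ha0 : a ≠ 0 := by
    rintro rfl
    rw [pow_zero] at ha
    omega
  rw [ha]
  exact dvd_pow_self p ha0

theorem Dat4.k_pos (D : Dat4 p k G) : 1 ≤ k := by
  have h1 := Nat.le_of_dvd (by omega) D.p_dvd
  have := D.h5
  omega

theorem dvd_prod {t a b : ℕ} (ht : t.Prime) (ha : ¬ t ∣ a) (hb : ¬ t ∣ b) : ¬ t ∣ a * b := by
  rw [ht.dvd_mul]; tauto

theorem not_dvd_two_pow {t : ℕ} (ht : t.Prime) (ht2 : t ≠ 2) (n : ℕ) : ¬ t ∣ 2 ^ n := by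
  intro h
  exact ht2 ((Nat.prime_dvd_prime_iff_eq ht Nat.prime_two).1 (ht.dvd_of_dvd_pow h))

theorem Dat4.absA (D : Dat4 p k G) {t : ℕ} (ht : t.Prime) (ht2 : t ≠ 2) (h : t ∣ A k) {g : G} (hg : t ∣ orderOf g) :
    orderOf g ∣ A k * (2 * k + 1) := by
  obtain ⟨h1, h2, h3, h4⟩ := of_dvd_A ht ht2 h
  have h8 : ¬ t ∣ 8 := not_dvd_two_pow ht ht2 3
  have h40 : ¬ t ∣ 4 := not_dvd_two_pow ht ht2 2
  have h20 : ¬ t ∣ 2 := not_dvd_two_pow ht ht2 1
  have hp : ¬ t ∣ p := by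
    intro h5
    rw [Nat.prime_dvd_prime_iff_eq ht D.pp] at h5
    subst h5
    exact h4 D.p_dvd
  rcases D.spec g with h5 | h5 | h5 | h5 | h5
  · exact absurd (hg.trans h5) (dvd_prod ht h1 h3)
  · exact h5
  · exact absurd (hg.trans h5) (dvd_prod ht h8 (dvd_prod ht h2 h1))
  · exact absurd (hg.trans h5) (dvd_prod ht hp (dvd_prod ht h20 (dvd_prod ht h2 h1)))
  · exact absurd (hg.trans h5) (dvd_prod ht hp (dvd_prod ht h40 h1))

theorem Dat4.absB (D : Dat4 p k G) {t : ℕ} (ht : t.Prime) (h : t ∣ R6 k) {g : G} (hg : t ∣ orderOf g) :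
    orderOf g ∣ (k + 1) * B k := by
  obtain ⟨ht2, -, -, h1, h2, h3, h4⟩ := of_dvd_R6 ht h
  have h8 : ¬ t ∣ 8 := not_dvd_two_pow ht ht2 3
  have h40 : ¬ t ∣ 4 := not_dvd_two_pow ht ht2 2
  have h20 : ¬ t ∣ 2 := not_dvd_two_pow ht ht2 1
  have hp : ¬ t ∣ p := by
    intro h5
    rw [Nat.prime_dvd_prime_iff_eq ht D.pp] at h5
    subst h5
    exact h4 D.p_dvd
  rcases D.spec g with h5 | h5 | h5 | h5 | h5
  · exact h5
  · exact absurd (hg.trans h5) (dvd_prod ht h3 h2)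
  · exact absurd (hg.trans h5) (dvd_prod ht h8 (dvd_prod ht h2 h1))
  · exact absurd (hg.trans h5) (dvd_prod ht hp (dvd_prod ht h20 (dvd_prod ht h2 h1)))
  · exact absurd (hg.trans h5) (dvd_prod ht hp (dvd_prod ht h40 h1))

/-- elements of order divisible by `p` -/
theorem Dat4.absP (D : Dat4 p k G) {g : G} (hg : p ∣ orderOf g) : orderOf g ≤ 2 * p * (2 * k + 1) * (k + 1) := by
  obtain ⟨h1, h2, h3, h4⟩ := of_dvd_q D.pp D.odd_p D.p_dvd
  have h8 : ¬ p ∣ 8 := not_dvd_two_pow D.pp D.odd_p 3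
  have hpos := D.pp.pos
  have hk := D.k_pos
  rcases D.spec g with h5 | h5 | h5 | h5 | h5
  · exact absurd (hg.trans h5) (dvd_prod D.pp h1 h4)
  · exact absurd (hg.trans h5) (dvd_prod D.pp h3 h2)
  · exact absurd (hg.trans h5) (dvd_prod D.pp h8 (dvd_prod D.pp h2 h1))
  · refine (Nat.le_of_dvd (by positivity) h5).trans (le_of_eq ?_)
    ring
  · refine (Nat.le_of_dvd (by positivity) h5).trans ?_
    have : p * (4 * (k + 1)) ≤ p * (2 * (2 * k + 1) * (k + 1)) := by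
      apply Nat.mul_le_mul_left
      apply Nat.mul_le_mul_right
      omega
    refine this.trans (le_of_eq ?_)
    ring

theorem Dat4.no_two (D : Dat4 p k G) {r : ℕ} (hr : r.Prime) (hr2 : r ≠ 2) (h : r ∣ A k) (x : G) : orderOf x ≠ 2 * r := by
  intro hx
  have h1 := D.absA hr hr2 h (g := x) (by rw [hx]; exact dvd_mul_left _ _)
  rw [hx] at h1
  have h2 : 2 ∣ A k * (2 * k + 1) := (dvd_mul_right 2 r).trans h1
  rcases (Nat.prime_two.dvd_mul).1 h2 with h3 | h3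
  · unfold A at h3; omega
  · omega

theorem Dat4.no_pr (D : Dat4 p k G) {r : ℕ} (hr : r.Prime) (hr2 : r ≠ 2) (h : r ∣ A k) (x : G) : orderOf x ≠ p * r := by
  intro hx
  have h1 := D.absA hr hr2 h (g := x) (by rw [hx]; exact dvd_mul_left _ _)
  rw [hx] at h1
  obtain ⟨-, h2, h3, -⟩ := of_dvd_q D.pp D.odd_p D.p_dvd
  exact dvd_prod D.pp h3 h2 ((dvd_mul_right p r).trans h1)

theorem Dat4.no_sr (D : Dat4 p k G) {s r : ℕ} (hs : s.Prime) (h6 : s ∣ R6 k) (hr : r.Prime) (hr2 : r ≠ 2) (h : r ∣ A k)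
    (x : G) : orderOf x ≠ s * r := by
  intro hx
  have h1 := D.absA hr hr2 h (g := x) (by rw [hx]; exact dvd_mul_left _ _)
  rw [hx] at h1
  obtain ⟨-, -, -, -, h2, h3, -⟩ := of_dvd_R6 hs h6
  exact dvd_prod hs h3 h2 ((dvd_mul_right s r).trans h1)

theorem Dat4.no_ps (D : Dat4 p k G) {s : ℕ} (hs : s.Prime) (h6 : s ∣ R6 k) (x : G) : orderOf x ≠ p * s := by
  intro hx
  have h1 := D.absB hs h6 (g := x) (by rw [hx]; exact dvd_mul_left _ _)
  rw [hx] at h1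
  obtain ⟨h2, -, -, h3⟩ := of_dvd_q D.pp D.odd_p D.p_dvd
  exact dvd_prod D.pp h2 h3 ((dvd_mul_right p s).trans h1)

end

section main

variable {p k : ℕ} {G : Type*} [Group G] [Finite G] {K : Subgroup G} [K.Normal] {S : Subgroup (G ⧸ K)} [S.Normal]

omit [S.Normal] in
theorem card_mul_index_dvd : Nat.card K * S.index ∣ Nat.card G := by
  rw [Subgroup.card_eq_card_quotient_mul_card_subgroup K, mul_comm]
  exact Nat.mul_dvd_mul_right (Subgroup.index_dvd_card S) _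

/-- `p` and `R6` are good -/
theorem Dat4.good (D : Dat4 p k G) (hc : Clause K S) {r : ℕ} (hr : r.Prime) (hr2 : r ≠ 2) (hA : r ∣ A k)
    (hd : r ∣ Nat.card K * S.index) : (¬ p ∣ Nat.card K * S.index) ∧ ∀ s : ℕ, s.Prime → s ∣ R6 k → ¬ s ∣ Nat.card K * S.index := by
  have hdvd : ∀ n : ℕ, (∃ x : G, orderOf x = n) → n ∣ Nat.card G := by
    rintro n ⟨x, rfl⟩
    exact orderOf_dvd_natCard x
  have h6 := hdvd _ D.ex6
  have hp := hdvd _ D.exp
  obtain ⟨-, -, hAq, hBq⟩ := of_dvd_q D.pp D.odd_p D.p_dvd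
  have hpr : p ≠ r := by rintro rfl; exact hAq hA
  have key : ∀ s : ℕ, s.Prime → s ∣ R6 k → (¬ p ∣ Nat.card K * S.index) ∧ ¬ s ∣ Nat.card K * S.index := by
    intro s hs hsd
    obtain ⟨-, -, hsB, -, -, hsA, -⟩ := of_dvd_R6 hs hsd
    have hps : p ≠ s := by rintro rfl; exact hBq hsB
    have hsr : s ≠ r := by rintro rfl; exact hsA hA
    have h3 : ∀ {x y : ℕ}, (x = p ∨ x = r ∨ x = s) → (y = p ∨ y = r ∨ y = s) → x ∣ Nat.card K * S.index →
        y ∣ Nat.card K * S.index → x = y := fun {x y} hx hy hx1 hy1 =>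
      hc.three D.pp hr hs hpr hps (Ne.symm hsr) hp (hd.trans card_mul_index_dvd) (hsd.trans h6)
        (D.no_pr hr hr2 hA) (D.no_ps hs hsd) (fun x hx => D.no_sr hs hsd hr hr2 hA x (by rw [hx, mul_comm])) hx hy hx1 hy1
    exact ⟨fun h => hpr (h3 (Or.inl rfl) (Or.inr (Or.inl rfl)) h hd),
      fun h => hsr (h3 (Or.inr (Or.inr rfl)) (Or.inr (Or.inl rfl)) h hd)⟩
  obtain ⟨s, hs, hsd⟩ := Nat.exists_prime_and_dvd (R6_ne_one k)
  exact ⟨(key s hs hsd).1, fun s hs hsd => (key s hs hsd).2⟩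

theorem Dat4.exists_p (D : Dat4 p k G) (hp : ¬ p ∣ Nat.card K * S.index) : ∃ x : S, orderOf x = p := by
  obtain ⟨g, hg⟩ := D.exp
  obtain ⟨x, hx⟩ := exists_section K S (g := g) (by
    intro r hr h1
    rw [hg, Nat.prime_dvd_prime_iff_eq hr D.pp] at h1
    rw [h1]; exact hp)
  exact ⟨x, by rw [hx, hg]⟩

theorem Dat4.exists_six (D : Dat4 p k G) (h6 : ∀ s : ℕ, s.Prime → s ∣ R6 k → ¬ s ∣ Nat.card K * S.index) :
    ∃ x : S, orderOf x = R6 k := by
  obtain ⟨g, hg⟩ := D.ex6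
  obtain ⟨x, hx⟩ := exists_section K S (g := g) (by rw [hg]; exact h6)
  exact ⟨x, by rw [hx, hg]⟩

/-- **The case `A_7`.** -/
theorem Dat4.not_alt (D : Dat4 p k G) (hc : Clause K S) (E : S ≃* alternatingGroup (Fin 7)) {r : ℕ} (hr : r.Prime)
    (hr2 : r ≠ 2) (hA : r ∣ A k) (hd : r ∣ Nat.card K * S.index) : False := by
  obtain ⟨hp, h6⟩ := D.good hc hr hr2 hA hd
  obtain ⟨x, hx⟩ := D.exists_p hp
  obtain ⟨y, hy⟩ := D.exists_six h6
  have hcard : Nat.card S ∣ 5040 := by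
    rw [Nat.card_congr E.toEquiv]
    have h1 : 2 * Nat.card (alternatingGroup (Fin 7)) = Nat.card (Equiv.Perm (Fin 7)) := two_mul_nat_card_alternatingGroup
    rw [Nat.card_perm, Nat.card_fin] at h1
    exact ⟨2, by rw [mul_comm, h1]; rfl⟩
  have hsmall : ∀ t : ℕ, t.Prime → t ∣ 5040 → t = 2 ∨ t = 3 ∨ t = 5 ∨ t = 7 := by
    intro t ht h
    have h1 : (5040 : ℕ) = 2 ^ 4 * (3 ^ 2 * (5 * 7)) := by norm_num
    rw [h1, ht.dvd_mul, ht.dvd_mul, ht.dvd_mul] at h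
    rcases h with h | h | h | h
    · exact Or.inl ((Nat.prime_dvd_prime_iff_eq ht Nat.prime_two).1 (ht.dvd_of_dvd_pow h))
    · exact Or.inr (Or.inl ((Nat.prime_dvd_prime_iff_eq ht Nat.prime_three).1 (ht.dvd_of_dvd_pow h)))
    · exact Or.inr (Or.inr (Or.inl ((Nat.prime_dvd_prime_iff_eq ht (by norm_num)).1 h)))
    · exact Or.inr (Or.inr (Or.inr ((Nat.prime_dvd_prime_iff_eq ht (by norm_num)).1 h)))
  have hp7 : p = 7 := by
    rcases hsmall p D.pp (by rw [← hx]; exact (orderOf_dvd_natCard x).trans hcard) with h | h | h | h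
    · have := D.h5; omega
    · have := D.h5; omega
    · obtain ⟨a, ha⟩ := D.hq
      rw [h] at ha
      have h1 : 5 ^ a % 4 = 1 := by rw [Nat.pow_mod]; norm_num
      omega
    · exact h
  obtain ⟨s, hs, hsd⟩ := Nat.exists_prime_and_dvd (R6_ne_one k)
  obtain ⟨hs2, hs3, hsB, -⟩ := of_dvd_R6 hs hsd
  rcases hsmall s hs (hsd.trans (by rw [← hy]; exact (orderOf_dvd_natCard y).trans hcard)) with h | h | h | h
  · exact hs2 h
  · exact hs3 h
  · rw [h] at hsB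
    exact not_five_dvd_B k hsB
  · obtain ⟨-, -, -, hBq⟩ := of_dvd_q D.pp D.odd_p D.p_dvd
    rw [h, ← hp7] at hsB
    exact hBq hsB

/-- **The case `PSL_2(u)`, `u` odd.** -/
theorem Dat4.char_eq (D : Dat4 p k G) (hc : Clause K S) (hS : IsSimpleGroup S) (hC : centralizer (S : Set (G ⧸ K)) = ⊥)
    {F : Type*} [Field F] [Fintype F] {v : ℕ} [hvp : Fact v.Prime] [CharP F v] (hv2 : v ≠ 2) (h4 : 4 ≤ Fintype.card F)
    (E : S ≃* Matrix.ProjectiveSpecialLinearGroup (Fin 2) F) {r : ℕ} (hr : r.Prime)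
    (hr2 : r ≠ 2) (hA : r ∣ A k) (hd : r ∣ Nat.card K * S.index) : v = p := by
  have hv := hvp.out
  obtain ⟨hp, h6⟩ := D.good hc hr hr2 hA hd
  obtain ⟨xp, hxp⟩ := D.exists_p hp
  obtain ⟨x6, hx6⟩ := D.exists_six h6
  obtain ⟨w, hw, hord⟩ := PslFrob.orders (v := v) h4 hv2 E
  have hFodd : Odd (Fintype.card F) := ⟨w, by omega⟩
  have h5r : 5 ≤ r := by
    have h3 : r ≠ 3 := by
      rintro rfl
      unfold A at hA
      obtain ⟨j, hj⟩ : ∃ j, k = 3 * j ∨ k = 3 * j + 1 ∨ k = 3 * j + 2 := ⟨k / 3, by omega⟩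
      rcases hj with rfl | rfl | rfl
      · have : 8 * (3 * j) ^ 2 + 12 * (3 * j) + 5 = 3 * (24 * j ^ 2 + 12 * j + 1) + 2 := by ring
        omega
      · have : 8 * (3 * j + 1) ^ 2 + 12 * (3 * j + 1) + 5 = 3 * (24 * j ^ 2 + 28 * j + 8) + 1 := by ring
        omega
      · have : 8 * (3 * j + 2) ^ 2 + 12 * (3 * j + 2) + 5 = 3 * (24 * j ^ 2 + 44 * j + 20) + 1 := by ring
        omega
    have h4' : r ≠ 4 := by
      rintro rfl
      exact absurd hr (by norm_num)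
    have := hr.two_le
    omega
  -- `r` divides `|K|`
  have hrK : r ∣ Nat.card K := by
    rcases (hr.dvd_mul).1 hd with h | h
    · exact h
    · exfalso
      obtain ⟨x, hx⟩ := index_adj S hFodd E hr h5r h
      obtain ⟨g, rfl⟩ := QuotientGroup.mk_surjective x
      obtain ⟨z, hz⟩ := exists_lift (QuotientGroup.mk' K) (n := 2 * r) (by omega) (y := g) (by
        rw [QuotientGroup.mk'_apply, hx])
      exact D.no_two hr hr2 hA z hz
  have heven : 2 ∣ Nat.card S := by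
    rcases Nat.even_or_odd w with h | h
    · obtain ⟨x, hx⟩ := (hord 2).2 (Or.inr (Or.inl h.two_dvd))
      rw [← hx]; exact orderOf_dvd_natCard x
    · obtain ⟨x, hx⟩ := (hord 2).2 (Or.inr (Or.inr h.add_one.two_dvd))
      rw [← hx]; exact orderOf_dvd_natCard x
  have H : Hyp K S r := by
    refine ⟨hr, hr2, hrK, D.no_two hr hr2 hA, heven, ?_⟩
    intro N hN hNb
    have h1 : (N.subgroupOf S).Normal := hN.subgroupOf S
    rcases hS.eq_bot_or_eq_top_of_normal (N.subgroupOf S) h1 with h2 | h2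
    · exfalso
      apply hNb
      rw [eq_bot_iff, ← hC]
      rw [Subgroup.subgroupOf_eq_bot] at h2
      intro x hx
      rw [mem_centralizer_iff]
      intro y hy
      exact (Subgroup.commute_of_normal_of_disjoint N S hN inferInstance h2 x y hx hy).symm
    · exact Subgroup.subgroupOf_eq_top.1 h2
  by_contra hvp'
  have hvr : v ≠ r := by
    rintro rfl
    apply H.not_dvd
    obtain ⟨x, hx⟩ := (hord v).2 (Or.inl dvd_rfl)
    rw [← hx]
    exact (orderOf_dvd_natCard x).trans (Subgroup.card_subgroup_dvd_card S)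
  -- the Frobenius groups
  have frob : ∀ s : ℕ, s.Prime → s ≠ 2 → s ∣ w → s ≠ r → ¬ s ∣ Nat.card K → (∀ x : G, orderOf x ≠ s * r) → False := by
    intro s hs hs2 hsw hsr hsK hadj
    obtain ⟨U, c, hU, hUc, hco, hcU, g, hg, hne⟩ := PslFrob.exists_frob (F := F) (v := v) hs hs2 (by
      rw [hw, Nat.add_sub_cancel]; exact hsw.mul_left 2)
    let ι : Matrix.ProjectiveSpecialLinearGroup (Fin 2) F →* G ⧸ K := S.subtype.comp E.symm.toMonoidHom
    have hι : Function.Injective ι := S.subtype_injective.comp E.symm.injective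
    have hsv : s ≠ v := by
      rintro rfl
      have h1 : s ∣ 2 * w + 1 := by
        rw [← hw]
        obtain ⟨n, -, hn⟩ := FiniteField.card F s
        rw [hn]
        exact dvd_pow_self s n.ne_zero
      rw [Nat.dvd_add_right (hsw.mul_left 2)] at h1
      exact hs.one_lt.ne' (Nat.dvd_one.1 h1)
    refine H.false_of_frob (v := v) (s := s) hv hs hv2 hs2 hsv hvr hsr (U := U.map ι) (hU.map ι) ?_ (c := ι c) ?_ ?_
      (u0 := ι g) ⟨g, hg, rfl⟩ ?_ hsK hadj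
    · rintro _ ⟨a, ha, rfl⟩ _ ⟨b, hb, rfl⟩
      rw [← map_mul, ← map_mul, hUc a ha b hb]
    · rw [orderOf_injective ι hι, hco]
    · refine mem_normalizer_fintype (S := (U.map ι : Set (G ⧸ K))) ?_
      rintro _ ⟨a, ha, rfl⟩
      exact ⟨c * a * c⁻¹, hcU a ha, by rw [map_mul, map_mul, map_inv]⟩
    · intro h
      rw [← map_mul, ← map_mul] at h
      exact hne (hι h)
  -- `p`
  have hpr : p ≠ r := by
    rintro rfl
    exact (of_dvd_q D.pp D.odd_p D.p_dvd).2.2.1 hA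
  have hpK : ¬ p ∣ Nat.card K := fun h => hp (h.mul_right _)
  have hpw1 : p ∣ w + 1 := by
    rcases (hord p).1 ⟨xp, hxp⟩ with h | h | h
    · exact absurd ((Nat.prime_dvd_prime_iff_eq D.pp hv).1 h).symm hvp'
    · exact (frob p D.pp D.odd_p h hpr hpK (D.no_pr hr hr2 hA)).elim
    · exact h
  obtain ⟨s, hs, hsd⟩ := Nat.exists_prime_and_dvd (R6_ne_one k)
  obtain ⟨hs2, hs3, hsB, -, -, hsA, hsq⟩ := of_dvd_R6 hs hsd
  have hsr : s ≠ r := by rintro rfl; exact hsA hA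
  have hps : p ≠ s := by rintro rfl; exact hsq D.p_dvd
  rcases (hord (R6 k)).1 ⟨x6, hx6⟩ with h | h | h
  · -- `R6 = v`
    have hvR : R6 k = v := ((Nat.dvd_prime hv).1 h).resolve_left (R6_ne_one k)
    obtain ⟨n, -, hn⟩ := FiniteField.card F v
    rw [hw, ← hvR] at hn
    obtain ⟨x, hx⟩ := (hord (w + 1)).2 (Or.inr (Or.inr dvd_rfl))
    obtain ⟨g, hg⟩ := exists_lift_order K S x
    have hle : w + 1 ≤ 2 * p * (2 * k + 1) * (k + 1) := by
      rw [← hx, ← hg]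
      exact D.absP (by rw [hg, hx]; exact hpw1)
    rcases Nat.lt_or_ge (n : ℕ) 2 with h2 | h2
    · have hn1 : (n : ℕ) = 1 := by have := n.pos; omega
      rw [hn1, pow_one] at hn
      exact last D.h5 D.p_dvd hn.symm hpw1
    · exact size D.k_pos (Nat.le_of_dvd (by omega) D.p_dvd) h2 hn.symm hle
  · exact frob s hs hs2 (hsd.trans h) hsr (fun h => h6 s hs hsd (h.mul_right _)) (D.no_sr hs hsd hr hr2 hA)
  · have h1 : p * s ∣ w + 1 := ((Nat.coprime_primes D.pp hs).2 hps).mul_dvd_of_dvd_of_dvd hpw1 (hsd.trans h)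
    obtain ⟨x, hx⟩ := (hord (p * s)).2 (Or.inr (Or.inr h1))
    obtain ⟨g, hg⟩ := exists_lift_order K S x
    exact D.no_ps hs hsd g (by rw [hg, hx])

end main

end Cfsg.Agent.H421.U4
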