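import Mathlib
import Cfsg.Agent.OddOrderLocal.Thm34

/-!
# Groups without elements of order `2 r` in which `r` divides the order of a normal subgroup (helper421)

`H : Hyp K S r`: `K` is normal in the finite group `G`, `S ≤ G / K` is contained in every nontrivial normal subgroup of
`G / K` and has even order, `r ≠ 2` divides `|K|` and `G` has no element of order `2 r`.

* `H.two_mul`: for every odd prime `s` dividing `|G / K|` there is an element of order `2 s` in `G`.
* `H.false_of_frob`: it is impossible that an element `c` of prime order `s` of `G / K` normalises, but does not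
  centralise an abelian `v`-subgroup of `G / K`, if `v`, `s` are odd, `v ≠ r`, `v ≠ s`, `s ∤ |K|` and `G` has no element
  of order `s r`.
-/

set_option autoImplicit false

namespace Cfsg.Agent.H421.FpfTwo

open Subgroup

variable {G : Type*} [Group G] [Finite G]

structure Hyp (K : Subgroup G) [K.Normal] (S : Subgroup (G ⧸ K)) (r : ℕ) : Prop where
  pr : r.Prime
  r2 : r ≠ 2
  dK : r ∣ Nat.card K
  n2 : ∀ x : G, orderOf x ≠ 2 * r
  even : 2 ∣ Nat.card S
  min : ∀ N : Subgroup (G ⧸ K), N.Normal → N ≠ ⊥ → S ≤ N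

/-- commuting elements and orders -/
theorem exists_mul_order {G : Type*} [Group G] [Finite G] {r s k : ℕ} (hr : r.Prime) (hs : s.Prime) (hrs : r ≠ s) {x y : G}
    (hx : orderOf x = s) (hy : y ≠ 1) (hyr : y ^ r ^ k = 1) (hc : x * y = y * x) : ∃ z : G, orderOf z = s * r := by
  have hfr : Fact r.Prime := ⟨hr⟩
  obtain ⟨j, -, hj⟩ := (Nat.dvd_prime_pow hr).1 (orderOf_dvd_of_pow_eq_one hyr)
  have hj0 : j ≠ 0 := by
    rintro rfl
    rw [pow_zero, orderOf_eq_one_iff] at hj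
    exact hy hj
  obtain ⟨i, rfl⟩ := Nat.exists_eq_succ_of_ne_zero hj0
  have hz : orderOf (y ^ r ^ i) = r := by
    rw [orderOf_pow_of_dvd (pow_pos hr.pos i).ne' (by rw [hj]; exact pow_dvd_pow _ (Nat.le_succ i)), hj, pow_succ,
      Nat.mul_div_cancel_left _ (pow_pos hr.pos i)]
  refine ⟨x * y ^ r ^ i, ?_⟩
  have hc' : Commute x (y ^ r ^ i) := (show Commute x y from hc).pow_right _
  rw [hc'.orderOf_mul_eq_mul_orderOf_of_coprime, hx, hz]
  rw [hx, hz]
  exact (Nat.coprime_primes hs hr).2 (Ne.symm hrs)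

/-- orders are lifted -/
theorem exists_lift {Y X : Type*} [Group Y] [Finite Y] [Group X] (f : Y →* X) {n : ℕ} (hn : 0 < n) {y : Y} (h : n ∣ orderOf (f y)) :
    ∃ z : Y, orderOf z = n := by
  have h1 : n ∣ orderOf y := h.trans (orderOf_map_dvd f y)
  have h2 : 0 < orderOf y := orderOf_pos y
  refine ⟨y ^ (orderOf y / n), ?_⟩
  rw [orderOf_pow_of_dvd (Nat.div_pos (Nat.le_of_dvd h2 h1) hn).ne' (Nat.div_dvd_of_dvd h1)]
  exact Nat.div_div_self h1 h2.ne'

/-- the data in the normaliser of a Sylow `r`-subgroup of `K`, as an abstract group `Y = N` -/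
structure Dat (Y X : Type*) [Group Y] [Group X] (f : Y →* X) (R : Subgroup Y) (r : ℕ) : Prop where
  surj : Function.Surjective f
  normal : R.Normal
  pgrp : IsPGroup r R
  ne : R ≠ ⊥
  ker : centralizer (R : Set Y) ≤ f.ker
  odd : Odd (Nat.card (centralizer (R : Set Y)))

variable {K : Subgroup G} [K.Normal] {S : Subgroup (G ⧸ K)} {r : ℕ}

theorem Hyp.dat (H : Hyp K S r) : ∃ (N : Subgroup G) (R : Subgroup N), Dat N (G ⧸ K) ((QuotientGroup.mk' K).comp N.subtype) R r := by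
  have hfr : Fact r.Prime := ⟨H.pr⟩
  obtain ⟨P⟩ : Nonempty (Sylow r K) := inferInstance
  set R0 : Subgroup G := (P : Subgroup K).map K.subtype with hR0
  set N : Subgroup G := normalizer (R0 : Set G) with hN
  have hsup : N ⊔ K = ⊤ := Sylow.normalizer_sup_eq_top P
  have hle : R0 ≤ N := le_normalizer
  have hR0p : IsPGroup r R0 := P.2.map _
  have hR0ne : R0 ≠ ⊥ := by
    intro h0
    have h1 : (P : Subgroup K) = ⊥ := by
      rw [hR0, Subgroup.map_eq_bot_iff_of_injective _ K.subtype_injective] at h0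
      exact h0
    have h2 := P.dvd_card_of_dvd_card H.dK
    rw [h1, Subgroup.card_bot] at h2
    exact H.pr.one_lt.ne' (Nat.dvd_one.1 h2)
  set f : N →* G ⧸ K := (QuotientGroup.mk' K).comp N.subtype with hf
  set R : Subgroup N := R0.subgroupOf N with hR
  have hsurj : Function.Surjective f := by
    intro x
    obtain ⟨g, rfl⟩ := QuotientGroup.mk_surjective x
    have hg : g ∈ N ⊔ K := by rw [hsup]; exact mem_top g
    obtain ⟨a, ha, b, hb, hab⟩ := Subgroup.mem_sup_of_normal_right.1 hg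
    refine ⟨⟨a, ha⟩, ?_⟩
    show QuotientGroup.mk a = QuotientGroup.mk g
    rw [QuotientGroup.eq, ← hab]
    simpa using hb
  have hRn : R.Normal := Subgroup.normal_in_normalizer
  have hRp : IsPGroup r R := hR0p.comap_of_injective N.subtype N.subtype_injective
  have hRne : R ≠ ⊥ := by
    intro h0
    apply hR0ne
    rw [hR, Subgroup.subgroupOf_eq_bot, disjoint_iff, inf_eq_left.2 hle] at h0
    exact h0
  -- the centraliser has odd order
  obtain ⟨⟨y, hyR⟩, hy1⟩ := Subgroup.ne_bot_iff_exists_ne_one.1 hRne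
  have hodd : Odd (Nat.card (centralizer (R : Set N))) := by
    by_contra hev
    rw [Nat.not_odd_iff_even] at hev
    obtain ⟨⟨t, htC⟩, ht⟩ := exists_prime_orderOf_dvd_card' 2 hev.two_dvd
    obtain ⟨k, hk⟩ := hRp ⟨y, hyR⟩
    rw [Subgroup.orderOf_mk] at ht
    obtain ⟨z, hz⟩ := exists_mul_order (G := N) (k := k) (x := t) (y := y) H.pr Nat.prime_two H.r2 ht
      (fun h => hy1 (Subtype.ext h)) (congrArg Subtype.val hk)
      (mem_centralizer_iff.1 htC y hyR).symm
    exact H.n2 z (by rw [Subgroup.orderOf_coe]; exact hz)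
  refine ⟨N, R, hsurj, hRn, hRp, hRne, ?_, hodd⟩
  -- the image of the centraliser is trivial
  have hCn : (centralizer (R : Set N)).Normal := inferInstance
  have hD : ((centralizer (R : Set N)).map f).Normal := hCn.map f hsurj
  rw [← Subgroup.map_eq_bot_iff]
  by_contra hne
  have h1 := H.min _ hD hne
  have h2 : 2 ∣ Nat.card (centralizer (R : Set N)) :=
    (H.even.trans (Subgroup.card_dvd_of_le h1)).trans (Subgroup.card_map_dvd _ f)
  exact (Nat.not_even_iff_odd.2 hodd) (even_iff_two_dvd.2 h2)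

section dat

variable {Y X : Type*} [Group Y] [Finite Y] [Group X] {f : Y →* X} {R : Subgroup Y}

/-- involutions invert `R` -/
theorem Dat.inv (D : Dat Y X f R r) (hr : r.Prime) (hr2 : r ≠ 2) (h2 : ∀ x : Y, orderOf x ≠ 2 * r) {t : Y}
    (ht : orderOf t = 2) : ∀ y ∈ R, t * y * t⁻¹ = y⁻¹ := by
  have hRn := D.normal
  have htt : t * t = 1 := by rw [← pow_two, ← ht, pow_orderOf_eq_one]
  have hfpf : ∀ y ∈ R, t * y = y * t → y = 1 := by
    intro y hy hc
    by_contra hne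
    obtain ⟨k, hk⟩ := D.pgrp ⟨y, hy⟩
    obtain ⟨z, hz⟩ := exists_mul_order (k := k) hr Nat.prime_two hr2 ht hne (congrArg Subtype.val hk) hc
    exact h2 z hz
  let φ : R →* R :=
    { toFun := fun y => ⟨t * y * t⁻¹, hRn.conj_mem _ y.2 t⟩
      map_one' := Subtype.ext (by simp)
      map_mul' := fun a b => Subtype.ext (by simp [mul_assoc]) }
  have hφ : MonoidHom.FixedPointFree φ := by
    intro y hy
    have h1 : t * (y : Y) * t⁻¹ = y := congrArg Subtype.val hy
    have h3 : t * (y : Y) = y * t := mul_inv_eq_iff_eq_mul.1 h1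
    exact Subtype.ext (hfpf y y.2 h3)
  have hinv : Function.Involutive φ := by
    intro y
    apply Subtype.ext
    show t * (t * (y : Y) * t⁻¹) * t⁻¹ = y
    have h1 : t⁻¹ = t := inv_eq_of_mul_eq_one_left htt
    rw [h1]
    calc t * (t * (y : Y) * t) * t = (t * t) * y * (t * t) := by group
      _ = y := by rw [htt]; simp
  intro y hy
  have := congrFun (hφ.coe_eq_inv_of_involutive hinv) ⟨y, hy⟩
  exact congrArg Subtype.val this

/-- all odd primes dividing `|X|` are adjacent to `2` -/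
theorem Dat.two_mul [Finite X] (D : Dat Y X f R r) (hr : r.Prime) (hr2 : r ≠ 2) (h2 : ∀ x : Y, orderOf x ≠ 2 * r)
    (he : 2 ∣ Nat.card X) {s : ℕ} (hs : s.Prime) (hs2 : s ≠ 2) (hd : s ∣ Nat.card X) :
    ∃ x : Y, orderOf x = 2 * s := by
  have hRn := D.normal
  have hfs : Fact s.Prime := ⟨hs⟩
  set C := centralizer (R : Set Y) with hC
  have hCn : C.Normal := inferInstance
  obtain ⟨t, ht⟩ : ∃ t : Y, orderOf t = 2 :=
    exists_prime_orderOf_dvd_card' 2 (he.trans (Subgroup.card_dvd_of_surjective f D.surj))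
  have htinv := D.inv hr hr2 h2 ht
  have htt : t * t = 1 := by rw [← pow_two, ← ht, pow_orderOf_eq_one]
  -- `t` is central modulo `C`
  have hcent : ∀ g : Y, g * t * g⁻¹ * t⁻¹ ∈ C := by
    intro g
    have hgt : orderOf (g * t * g⁻¹) = 2 := by
      rw [← ht]
      exact orderOf_injective (MulAut.conj g).toMonoidHom (MulAut.conj g).injective t
    have h1 := D.inv hr hr2 h2 hgt
    rw [hC, mem_centralizer_iff]
    intro y hy
    have h3 : t⁻¹ * y * t = y⁻¹ := by
      have h4 : t⁻¹ = t := inv_eq_of_mul_eq_one_left htt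
      have h5 := htinv y hy
      rw [h4] at h5 ⊢
      exact h5
    have h4 := h1 y⁻¹ (inv_mem hy)
    rw [inv_inv] at h4
    calc y * (g * t * g⁻¹ * t⁻¹) = (g * t * g⁻¹ * y⁻¹ * (g * t * g⁻¹)⁻¹) * (g * t * g⁻¹ * t⁻¹) := by rw [h4]
      _ = g * t * g⁻¹ * y⁻¹ * t⁻¹ := by group
      _ = g * t * g⁻¹ * (t⁻¹ * y * t) * t⁻¹ := by rw [h3]
      _ = (g * t * g⁻¹ * t⁻¹) * y := by group
  -- the quotient
  let fq : Y ⧸ C →* X := QuotientGroup.lift C f (fun x hx => D.ker hx)
  have hfq : Function.Surjective fq := by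
    intro x
    obtain ⟨y, rfl⟩ := D.surj x
    exact ⟨QuotientGroup.mk y, rfl⟩
  obtain ⟨xq, hxq⟩ : ∃ x : Y ⧸ C, orderOf x = s :=
    exists_prime_orderOf_dvd_card' s (hd.trans (Subgroup.card_dvd_of_surjective fq hfq))
  have htC : t ∉ C := by
    intro h
    have h1 := orderOf_dvd_natCard (⟨t, h⟩ : C)
    rw [Subgroup.orderOf_mk, ht] at h1
    exact (Nat.not_even_iff_odd.2 D.odd) (even_iff_two_dvd.2 h1)
  have htq : orderOf (QuotientGroup.mk t : Y ⧸ C) = 2 := by
    apply orderOf_eq_prime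
    · rw [pow_two, ← QuotientGroup.mk_mul, htt]; rfl
    · intro h
      exact htC ((QuotientGroup.eq_one_iff t).1 h)
  have hcomm : Commute (QuotientGroup.mk t : Y ⧸ C) xq := by
    obtain ⟨g, rfl⟩ := QuotientGroup.mk_surjective xq
    show (QuotientGroup.mk t : Y ⧸ C) * QuotientGroup.mk g = QuotientGroup.mk g * QuotientGroup.mk t
    rw [← QuotientGroup.mk_mul, ← QuotientGroup.mk_mul]
    have h1 : (QuotientGroup.mk (g * t * g⁻¹ * t⁻¹) : Y ⧸ C) = 1 := (QuotientGroup.eq_one_iff _).2 (hcent g)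
    have h3 : g * t = (g * t * g⁻¹ * t⁻¹) * (t * g) := by group
    rw [h3, QuotientGroup.mk_mul C (g * t * g⁻¹ * t⁻¹) (t * g), h1, one_mul]
  have hord : orderOf ((QuotientGroup.mk t : Y ⧸ C) * xq) = 2 * s := by
    rw [hcomm.orderOf_mul_eq_mul_orderOf_of_coprime, htq, hxq]
    rw [htq, hxq]
    exact (Nat.coprime_primes Nat.prime_two hs).2 (Ne.symm hs2)
  obtain ⟨g, hg⟩ := QuotientGroup.mk_surjective ((QuotientGroup.mk t : Y ⧸ C) * xq)
  refine exists_lift (QuotientGroup.mk' C) (by have := hs.pos; omega) (y := g) ?_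
  rw [QuotientGroup.mk'_apply, hg, hord]

/-- lifting a `v`-subgroup with an automorphism of prime order -/
theorem exists_lift_frob [Finite X] (hf : Function.Surjective f) {v s : ℕ} (hv : v.Prime) (hs : s.Prime) (hvs : s ≠ v)
    {U : Subgroup X} (hU : IsPGroup v U) (hUc : ∀ a ∈ U, ∀ b ∈ U, a * b = b * a) {c : X} (hc : orderOf c = s)
    (hcU : c ∈ normalizer (U : Set X)) {u0 : X} (hu0 : u0 ∈ U) (hu0c : c * u0 ≠ u0 * c) (hker : ¬ s ∣ Nat.card f.ker) :
    ∃ (V : Subgroup Y) (x : Y), IsPGroup v V ∧ orderOf x = s ∧ x ∈ normalizer (V : Set Y) ∧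
      ∃ w ∈ V, f x * f w ≠ f w * f x := by
  have hfv : Fact v.Prime := ⟨hv⟩
  have hfs : Fact s.Prime := ⟨hs⟩
  set Ut : Subgroup Y := U.comap f with hUt
  obtain ⟨P⟩ : Nonempty (Sylow v Ut) := inferInstance
  obtain ⟨n0, hn0⟩ := hf c
  have hn0N : n0 ∈ normalizer (Ut : Set Y) := by
    rw [mem_normalizer_iff] at hcU ⊢
    intro g
    rw [hUt, Subgroup.mem_comap, Subgroup.mem_comap, map_mul, map_mul, map_inv, hn0]
    exact hcU (f g)
  let φ : MulAut Ut := Ut.normalizerMonoidHom ⟨n0, hn0N⟩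
  obtain ⟨w, hw⟩ := MulAction.exists_smul_eq Ut (φ • P) P
  set V : Subgroup Y := (P : Subgroup Ut).map Ut.subtype with hV
  set y : Y := (w : Y) * n0 with hy
  have hyV : ∀ g ∈ (V : Set Y), y * g * y⁻¹ ∈ (V : Set Y) := by
    rintro _ ⟨g, hg, rfl⟩
    have h1 : φ g ∈ ((φ • P : Sylow v Ut) : Subgroup Ut) := smul_mem_pointwise_smul g φ (P : Subgroup Ut) hg
    have h2 : MulAut.conj w • φ g ∈ ((w • (φ • P) : Sylow v Ut) : Subgroup Ut) :=
      smul_mem_pointwise_smul _ (MulAut.conj w) _ h1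
    rw [hw] at h2
    refine ⟨_, h2, ?_⟩
    show (w : Y) * (n0 * (g : Y) * n0⁻¹) * (w : Y)⁻¹ = y * g * y⁻¹
    rw [hy]; group
  have hyN : y ∈ normalizer (V : Set Y) := mem_normalizer_fintype hyV
  -- powers of `f y`
  have hpow : ∀ n : ℕ, ∃ a ∈ U, f y ^ n = a * c ^ n := by
    intro n
    induction n with
    | zero => exact ⟨1, one_mem _, by simp⟩
    | succ n ih =>
      obtain ⟨a, ha, e⟩ := ih
      refine ⟨a * (c ^ n * f w * (c ^ n)⁻¹), U.mul_mem ha ((mem_normalizer_iff.1 (pow_mem hcU n) _).1 w.2), ?_⟩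
      rw [pow_succ, e, hy, map_mul, hn0, pow_succ]
      group
  have hord : 0 < orderOf y := orderOf_pos y
  obtain ⟨j, m, hm, hjm⟩ := Nat.exists_eq_pow_mul_and_not_dvd hord.ne' s hs.ne_one
  set x : Y := y ^ m with hx
  have hxj : x ^ s ^ j = 1 := by rw [hx, ← pow_mul, mul_comm, ← hjm, pow_orderOf_eq_one]
  have hxs : x ^ s = 1 := by
    -- first `f x ^ s = 1`
    have h1 : f x ^ s ∈ U := by
      obtain ⟨a, ha, e⟩ := hpow s
      have h2 : c ^ s = 1 := by rw [← hc, pow_orderOf_eq_one]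
      rw [h2, mul_one] at e
      rw [hx, map_pow, ← pow_mul, mul_comm, pow_mul, e]
      exact pow_mem ha m
    obtain ⟨k, hk⟩ := hU ⟨_, h1⟩
    have hk' : (f x ^ s) ^ v ^ k = 1 := congrArg Subtype.val hk
    have h3 : (f x ^ s) ^ s ^ j = 1 := by
      rw [← pow_mul, mul_comm, pow_mul, ← map_pow, hxj, map_one, one_pow]
    have h4 : orderOf (f x ^ s) ∣ 1 := by
      have hcop : (v ^ k).Coprime (s ^ j) := Nat.Coprime.pow _ _ ((Nat.coprime_primes hv hs).2 (Ne.symm hvs))
      rw [← hcop]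
      exact Nat.dvd_gcd (orderOf_dvd_of_pow_eq_one hk') (orderOf_dvd_of_pow_eq_one h3)
    have h5 : f x ^ s = 1 := orderOf_eq_one_iff.1 (Nat.dvd_one.1 h4)
    have h6 : x ^ s ∈ f.ker := by rw [MonoidHom.mem_ker, map_pow, h5]
    have h7 : (x ^ s) ^ s ^ j = 1 := by rw [← pow_mul, mul_comm, pow_mul, hxj, one_pow]
    have h8 : orderOf (x ^ s) ∣ Nat.card f.ker := by
      have := orderOf_dvd_natCard (⟨x ^ s, h6⟩ : f.ker)
      rwa [Subgroup.orderOf_mk] at this
    have h9 : orderOf (x ^ s) ∣ 1 := by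
      have hcop : (s ^ j).Coprime (Nat.card f.ker) := Nat.Coprime.pow_left _ ((Nat.Prime.coprime_iff_not_dvd hs).2 hker)
      rw [← hcop]
      exact Nat.dvd_gcd (orderOf_dvd_of_pow_eq_one h7) h8
    exact orderOf_eq_one_iff.1 (Nat.dvd_one.1 h9)
  -- `f x` does not centralise `U`
  have hne : ∃ u ∈ U, f x * u ≠ u * f x := by
    by_contra hall
    push Not at hall
    obtain ⟨a, ha, e⟩ := hpow m
    have h1 : c ^ m ∈ centralizer (U : Set X) := by
      rw [mem_centralizer_iff]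
      intro u hu
      have h2 := hall u hu
      rw [hx, map_pow, e] at h2
      have h3 := hUc a ha u hu
      have h4 : a * (u * c ^ m) = a * (c ^ m * u) := by
        rw [← mul_assoc, h3, mul_assoc, ← h2, mul_assoc]
      exact mul_left_cancel h4
    obtain ⟨i, hi⟩ := exists_pow_eq_self_of_coprime (x := c) (n := m) (by
      rw [hc, Nat.coprime_comm]; exact (Nat.Prime.coprime_iff_not_dvd hs).2 hm)
    have h2 : c ∈ centralizer (U : Set X) := by
      rw [← hi]; exact pow_mem h1 i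
    exact hu0c (mem_centralizer_iff.1 h2 u0 hu0).symm
  obtain ⟨u, hu, huc⟩ := hne
  -- `V` maps onto `U`
  have hsurj : Function.Surjective (f.subgroupComap U) := MonoidHom.subgroupComap_surjective_of_surjective f U hf
  have htop : ((P.mapSurjective hsurj : Sylow v U) : Subgroup U) = ⊤ := by
    refine ((P.mapSurjective hsurj : Sylow v U).3 (Q := ⊤) ?_ le_top).symm
    exact hU.to_subgroup _
  have hVu : ∃ w ∈ V, f w = u := by
    have h1 : (⟨u, hu⟩ : U) ∈ ((P.mapSurjective hsurj : Sylow v U) : Subgroup U) := by rw [htop]; exact mem_top _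
    obtain ⟨g, hg, e⟩ := h1
    exact ⟨g, ⟨g, hg, rfl⟩, congrArg Subtype.val e⟩
  obtain ⟨w', hw', e'⟩ := hVu
  refine ⟨V, x, P.2.map _, ?_, pow_mem hyN m, w', hw', by rw [e']; exact huc⟩
  apply orderOf_eq_prime hxs
  intro h1
  apply huc
  rw [h1, map_one, one_mul, mul_one]

/-- **Theorem B**, abstract form -/
theorem Dat.false_of_frob [Finite X] (D : Dat Y X f R r) (hr : r.Prime) {v s : ℕ} (hv : v.Prime) (hs : s.Prime)
    (hv2 : v ≠ 2) (hs2 : s ≠ 2) (hvs : s ≠ v) (hvr : v ≠ r) (hsr : s ≠ r)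
    {U : Subgroup X} (hU : IsPGroup v U) (hUc : ∀ a ∈ U, ∀ b ∈ U, a * b = b * a) {c : X} (hc : orderOf c = s)
    (hcU : c ∈ normalizer (U : Set X)) {u0 : X} (hu0 : u0 ∈ U) (hu0c : c * u0 ≠ u0 * c) (hker : ¬ s ∣ Nat.card f.ker)
    (hsr' : ∀ x : Y, orderOf x ≠ s * r) : False := by
  have hfv : Fact v.Prime := ⟨hv⟩
  have hfs : Fact s.Prime := ⟨hs⟩
  have hfr : Fact r.Prime := ⟨hr⟩
  have hRn := D.normal
  obtain ⟨V, x, hV, hx, hxV, w, hw, hne⟩ := exists_lift_frob D.surj hv hs hvs hU hUc hc hcU hu0 hu0c hker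
  obtain ⟨a, ha⟩ := (IsPGroup.iff_card (p := v)).1 hV
  obtain ⟨b, hb⟩ := (IsPGroup.iff_card (p := r)).1 D.pgrp
  have hcx : Nat.card (zpowers x) = s := by rw [Nat.card_zpowers, hx]
  have hnorm : normalizer (R : Set Y) = ⊤ := normalizer_eq_top_iff.2 hRn
  have hVnil : Group.IsNilpotent V := hV.isNilpotent
  have hRnil : Group.IsNilpotent R := D.pgrp.isNilpotent
  have key := Cfsg.Agent.OddOrderLocal.Thm34.commutator_le_centralizer_of_fixedFree V (zpowers x) R
    inferInstance (by rw [ha]; exact (hv.odd_of_ne_two hv2).pow) (by rw [hcx]; exact hs) (by rw [hcx]; exact hs2)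
    (by rw [zpowers_le]; exact hxV) (by
      rw [ha, hcx]; exact Nat.Coprime.pow_left _ ((Nat.coprime_primes hv hs).2 (Ne.symm hvs)))
    (by rw [hnorm]; exact le_top) (by rw [hnorm]; exact le_top) inferInstance
    (by rw [ha, hb]; exact Nat.Coprime.pow _ _ ((Nat.coprime_primes hr hv).2 (Ne.symm hvr)))
    (by rw [hb, hcx]; exact Nat.Coprime.pow_left _ ((Nat.coprime_primes hr hs).2 (Ne.symm hsr))) (by
      rw [eq_bot_iff]
      rintro y ⟨hy, hyc⟩
      rw [mem_bot]
      by_contra hy1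
      obtain ⟨k, hk⟩ := D.pgrp ⟨y, hy⟩
      obtain ⟨z, hz⟩ := exists_mul_order (k := k) (x := x) (y := y) hr hs (Ne.symm hsr) hx hy1 (congrArg Subtype.val hk)
        (mem_centralizer_iff.1 hyc x (mem_zpowers x))
      exact hsr' z hz)
  have h1 : w * x * w⁻¹ * x⁻¹ ∈ f.ker := D.ker (key (commutator_mem_commutator hw (mem_zpowers x)))
  rw [MonoidHom.mem_ker, map_mul, map_mul, map_mul, map_inv, map_inv] at h1
  apply hne
  rw [mul_inv_eq_one, mul_inv_eq_iff_eq_mul] at h1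
  exact h1.symm

end dat


/-- **Theorem A.** -/
theorem Hyp.two_mul (H : Hyp K S r) {s : ℕ} (hs : s.Prime) (hs2 : s ≠ 2) (hd : s ∣ Nat.card (G ⧸ K)) :
    ∃ x : G, orderOf x = 2 * s := by
  obtain ⟨N, R, D⟩ := H.dat
  obtain ⟨x, hx⟩ := D.two_mul H.pr H.r2 (fun x hx => H.n2 x (by rw [Subgroup.orderOf_coe]; exact hx))
    (H.even.trans (Subgroup.card_subgroup_dvd_card S)) hs hs2 hd
  exact ⟨x, by rw [Subgroup.orderOf_coe]; exact hx⟩

theorem Hyp.not_dvd (H : Hyp K S r) : ¬ r ∣ Nat.card (G ⧸ K) := by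
  intro h
  obtain ⟨x, hx⟩ := H.two_mul H.pr H.r2 h
  exact H.n2 x hx

/-- **Theorem B.** -/
theorem Hyp.false_of_frob (H : Hyp K S r) {v s : ℕ} (hv : v.Prime) (hs : s.Prime)
    (hv2 : v ≠ 2) (hs2 : s ≠ 2) (hvs : s ≠ v) (hvr : v ≠ r) (hsr : s ≠ r)
    {U : Subgroup (G ⧸ K)} (hU : IsPGroup v U) (hUc : ∀ a ∈ U, ∀ b ∈ U, a * b = b * a) {c : G ⧸ K} (hc : orderOf c = s)
    (hcU : c ∈ normalizer (U : Set (G ⧸ K))) {u0 : G ⧸ K} (hu0 : u0 ∈ U) (hu0c : c * u0 ≠ u0 * c)
    (hker : ¬ s ∣ Nat.card K) (hsr' : ∀ x : G, orderOf x ≠ s * r) : False := by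
  obtain ⟨N, R, D⟩ := H.dat
  refine D.false_of_frob H.pr hv hs hv2 hs2 hvs hvr hsr hU hUc hc hcU hu0 hu0c ?_
    (fun x hx => hsr' x (by rw [Subgroup.orderOf_coe]; exact hx))
  intro h
  apply hker
  refine h.trans ?_
  have h1 : ((QuotientGroup.mk' K).comp N.subtype).ker = K.subgroupOf N := by
    ext g
    rw [MonoidHom.mem_ker, Subgroup.mem_subgroupOf]
    exact QuotientGroup.eq_one_iff _
  rw [h1]
  exact Subgroup.card_comap_dvd_of_injective K N.subtype N.subtype_injective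

end Cfsg.Agent.H421.FpfTwo
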